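import Cfsg.Agent.BS.Ch1d

/-! Peterfalvi II, Chapter I: see `Ch1a` (§1), `Ch1b` (Thompson, App. I), `Ch1c` (§2, Lemma 3),
`Ch1d` (§3). Chapter II is `BS.Hyp.second` in `Ch2`. -/
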